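import Cfsg.Agent.Lib.CharDeep.MaxInd

/-!
# Chief factors of solvable groups, automorphisms of elementary abelian groups, commutators

* `exists_chief_above`: an elementary abelian chief factor above a proper normal subgroup.
* `card_mulAut_elem`: the order of the automorphism group of an elementary abelian group.
* `cm_mul_left`, `cm_mul_right`, `cm_pow_left`, `cm_pow_right`: commutators that are central.
* `card_monoidHom_field_le`: Dedekind's count.
-/

set_option autoImplicit false
set_option linter.unusedSectionVars false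

namespace Cfsg.Agent.Lib.CharDeep.PartBound

open scoped commutatorElement

universe u v

section Comm

variable {G : Type*} [Group G]

theorem cm_mul_left {x y z : G} (hc : ∀ t, t * ⁅y, z⁆ = ⁅y, z⁆ * t) :
    ⁅x * y, z⁆ = ⁅x, z⁆ * ⁅y, z⁆ := by
  have e : ⁅x * y, z⁆ = x * ⁅y, z⁆ * x⁻¹ * ⁅x, z⁆ := by
    simp only [commutatorElement_def]
    group
  rw [e, hc x, mul_assoc ⁅y, z⁆, mul_inv_cancel, mul_one, hc]

theorem cm_mul_right {x y z : G} (hc : ∀ t, t * ⁅x, z⁆ = ⁅x, z⁆ * t) :
    ⁅x, y * z⁆ = ⁅x, y⁆ * ⁅x, z⁆ := by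
  have e : ⁅x, y * z⁆ = ⁅x, y⁆ * (y * ⁅x, z⁆ * y⁻¹) := by
    simp only [commutatorElement_def]
    group
  rw [e, hc y, mul_assoc ⁅x, z⁆, mul_inv_cancel, mul_one]

theorem cm_pow_left {x z : G} (hc : ∀ t, t * ⁅x, z⁆ = ⁅x, z⁆ * t) (k : ℕ) :
    ⁅x ^ k, z⁆ = ⁅x, z⁆ ^ k := by
  induction k with
  | zero => simp
  | succ k ih => rw [pow_succ, cm_mul_left hc, ih, pow_succ]

theorem cm_pow_right {x z : G} (hc : ∀ t, t * ⁅x, z⁆ = ⁅x, z⁆ * t) (k : ℕ) :
    ⁅x, z ^ k⁆ = ⁅x, z⁆ ^ k := by
  induction k with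
  | zero => simp
  | succ k ih => rw [pow_succ, cm_mul_right hc, ih, pow_succ]

end Comm

section Chief

variable {G : Type u} [Group G] [Finite G]

/-- An elementary abelian chief factor above a proper normal subgroup. -/
theorem exists_chief_above [Group.IsSolvable G] (A : Subgroup G) [hA : A.Normal] (hne : A ≠ ⊤) :
    ∃ (D : Subgroup G) (r : ℕ), D.Normal ∧ A < D ∧ (∀ x ∈ D, ∀ y ∈ D, ⁅x, y⁆ ∈ A) ∧ r.Prime ∧
      (∀ x ∈ D, x ^ r ∈ A) ∧ (∃ a, 0 < a ∧ A.relIndex D = r ^ a) ∧
      (∀ X : Subgroup G, X.Normal → A ≤ X → X ≤ D → X = A ∨ X = D) := by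
  classical
  obtain ⟨D, hD, hAD, hchief⟩ := MaxInd.exists_minimal_normal_above A hne
  haveI := hD
  have hcomm : ⁅D, D⁆ ≤ A :=
    MaxInd.commutator_le_of_chief (L := A) (A := A) (B := D) inferInstance le_rfl hAD hchief
  obtain ⟨r, a, hr, hidx, ha⟩ := MaxInd.exists_prime_relIndex hcomm hAD hchief
  have hcm : ∀ x ∈ D, ∀ y ∈ D, ⁅x, y⁆ ∈ A := fun x hx y hy =>
    hcomm (Subgroup.commutator_mem_commutator hx hy)
  haveI : Fact r.Prime := ⟨hr⟩
  refine ⟨D, r, hD, hAD, hcm, hr, ?_, ⟨a, ha, hidx⟩, hchief⟩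
  -- the quotient
  have hQc : ∀ x ∈ D, ∀ y ∈ D, Commute ((x : G) : G ⧸ A) ((y : G) : G ⧸ A) := by
    intro x hx y hy
    have h1 := hcm x hx y hy
    have h2 : ((⁅x, y⁆ : G) : G ⧸ A) = 1 := (QuotientGroup.eq_one_iff _).mpr h1
    rw [commutatorElement_def] at h2
    simp only [QuotientGroup.mk_mul, QuotientGroup.mk_inv] at h2
    have h3 : ((x : G) : G ⧸ A) * ((y : G) : G ⧸ A) * ((x : G) : G ⧸ A)⁻¹ = ((y : G) : G ⧸ A) :=
      mul_inv_eq_one.mp h2
    exact mul_inv_eq_iff_eq_mul.mp h3
  let D₁ : Subgroup G :=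
    { carrier := {x | x ∈ D ∧ ((x : G) : G ⧸ A) ^ r = 1}
      one_mem' := ⟨D.one_mem, by simp⟩
      mul_mem' := by
        rintro x y ⟨hx, hx'⟩ ⟨hy, hy'⟩
        refine ⟨D.mul_mem hx hy, ?_⟩
        rw [QuotientGroup.mk_mul, (hQc x hx y hy).mul_pow, hx', hy', one_mul]
      inv_mem' := by
        rintro x ⟨hx, hx'⟩
        refine ⟨D.inv_mem hx, ?_⟩
        rw [QuotientGroup.mk_inv, inv_pow, hx', inv_one] }
  have hD₁n : D₁.Normal := by
    refine ⟨fun x hx g => ⟨hD.conj_mem x hx.1 g, ?_⟩⟩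
    simp only [QuotientGroup.mk_mul, QuotientGroup.mk_inv]
    rw [conj_pow, hx.2]
    simp
  have hAD₁ : A ≤ D₁ := by
    intro x hx
    refine ⟨hAD.le hx, ?_⟩
    rw [(QuotientGroup.eq_one_iff x).mpr hx, one_pow]
  have hD₁D : D₁ ≤ D := fun x hx => hx.1
  have hD₁ : D₁ = D := by
    rcases hchief D₁ hD₁n hAD₁ hD₁D with h | h
    · exfalso
      have hdvd : r ∣ Nat.card (D ⧸ A.subgroupOf D) := by
        have : Nat.card (D ⧸ A.subgroupOf D) = A.relIndex D := rfl
        rw [this, hidx]
        exact dvd_pow_self _ ha.ne'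
      obtain ⟨x, hx⟩ := exists_prime_orderOf_dvd_card' r hdvd
      obtain ⟨y, rfl⟩ := QuotientGroup.mk_surjective x
      have h1 : ((y : D) : D ⧸ A.subgroupOf D) ^ r = 1 := by
        rw [← hx, pow_orderOf_eq_one]
      have h2 : ((y : D) : D ⧸ A.subgroupOf D) ≠ 1 := by
        intro h3
        rw [h3, orderOf_one] at hx
        exact hr.one_lt.ne hx
      have h3 : y ^ r ∈ A.subgroupOf D := by
        rw [← QuotientGroup.eq_one_iff, QuotientGroup.mk_pow]
        exact h1
      have h4 : y ∉ A.subgroupOf D := by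
        rw [← QuotientGroup.eq_one_iff]
        exact h2
      have h5 : (y : G) ^ r ∈ A := by
        have := Subgroup.mem_subgroupOf.mp h3
        simpa using this
      have h6 : (y : G) ∉ A := fun h' => h4 (Subgroup.mem_subgroupOf.mpr h')
      have h7 : (y : G) ∈ D₁ := ⟨y.2, by
        rw [← QuotientGroup.mk_pow]
        exact (QuotientGroup.eq_one_iff _).mpr h5⟩
      rw [h] at h7
      exact h6 h7
    · exact h
  intro x hx
  rw [← hD₁] at hx
  have := hx.2
  rw [← QuotientGroup.mk_pow] at this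
  exact (QuotientGroup.eq_one_iff _).mp this

end Chief

section Card

/-- Additive automorphisms which are automatically linear. -/
theorem card_addAut_of_linear {K A : Type*} [Field K] [Finite K] [AddCommGroup A] [Module K A]
    [Finite A] (hlin : ∀ (f : A →+ A) (k : K) (a : A), f (k • a) = k • f a) {d : ℕ}
    (hcard : Nat.card A = Nat.card K ^ d) (hK : 1 < Nat.card K) :
    Nat.card (A ≃+ A) = Nat.card (GL (Fin d) K) := by
  classical
  haveI : Module.Finite K A := Module.Finite.of_finite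
  have hf : Module.finrank K A = d := by
    have h1 : Nat.card A = Nat.card K ^ Module.finrank K A := Module.natCard_eq_pow_finrank
    rw [hcard] at h1
    exact (Nat.pow_right_injective hK h1).symm
  let e3 : A ≃ₗ[K] (Fin d → K) := (Module.finBasisOfFinrankEq K A hf).equivFun
  let e2 : (A ≃+ A) ≃ (A ≃ₗ[K] A) :=
    { toFun := fun f =>
        { toFun := f
          map_add' := f.map_add
          map_smul' := fun k a => hlin f.toAddMonoidHom k a
          invFun := f.symm
          left_inv := f.left_inv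
          right_inv := f.right_inv }
      invFun := fun f => f.toAddEquiv
      left_inv := fun f => by ext; rfl
      right_inv := fun f => by ext; rfl }
  let e4 : (A ≃ₗ[K] A) ≃ ((Fin d → K) ≃ₗ[K] (Fin d → K)) :=
    { toFun := fun f => e3.symm ≪≫ₗ f ≪≫ₗ e3
      invFun := fun f => e3 ≪≫ₗ f ≪≫ₗ e3.symm
      left_inv := fun f => by ext x; simp
      right_inv := fun f => by ext x; simp }
  let e5 : ((Fin d → K) ≃ₗ[K] (Fin d → K)) ≃ GL (Fin d) K :=
    ((LinearMap.GeneralLinearGroup.generalLinearEquiv K (Fin d → K)).symm.toEquiv).trans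
      (Matrix.GeneralLinearGroup.toLin (n := Fin d) (R := K)).symm.toEquiv
  exact Nat.card_congr (e2.trans (e4.trans e5))

/-- The order of the automorphism group of an elementary abelian group, additive form. -/
theorem card_addAut_elem {A : Type*} [AddCommGroup A] [Finite A] {r : ℕ} [Fact r.Prime]
    (htors : ∀ a : A, r • a = 0) {d : ℕ} (hcard : Nat.card A = r ^ d) :
    Nat.card (A ≃+ A) = ∏ i : Fin d, (r ^ d - r ^ (i : ℕ)) := by
  classical
  have hr : r.Prime := Fact.out
  letI iM : Module (ZMod r) A := AddCommGroup.zmodModule htors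
  have h := card_addAut_of_linear (K := ZMod r) (A := A) (fun f k a => ZMod.map_smul f k a)
    (d := d) (by rw [hcard, Nat.card_zmod]) (by rw [Nat.card_zmod]; exact hr.one_lt)
  rw [h, Matrix.card_GL_field, ZMod.card]

/-- The order of the automorphism group of an elementary abelian group. -/
theorem card_mulAut_elem {Y : Type*} [Group Y] [Finite Y] (hc : ∀ x y : Y, x * y = y * x) {r : ℕ}
    [Fact r.Prime] (hpow : ∀ x : Y, x ^ r = 1) {d : ℕ} (hcard : Nat.card Y = r ^ d) :
    Nat.card (MulAut Y) = ∏ i : Fin d, (r ^ d - r ^ (i : ℕ)) := by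
  letI iC : CommGroup Y := { ‹Group Y› with mul_comm := hc }
  have htors : ∀ a : Additive Y, r • a = 0 := fun a => by
    show Additive.ofMul (a.toMul ^ r) = 0
    rw [hpow]
    rfl
  haveI : Finite (Additive Y) := inferInstanceAs (Finite Y)
  rw [Nat.card_congr (MulEquiv.toAdditive : MulAut Y ≃ (Additive Y ≃+ Additive Y))]
  exact card_addAut_elem htors hcard

/-- Dedekind's count of characters. -/
theorem card_monoidHom_field_le {T K : Type*} [Group T] [Finite T] [Field K] [Finite K] :
    Nat.card (T →* K) ≤ Nat.card T := by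
  classical
  letI := Fintype.ofFinite T
  haveI : Finite (T →* K) := Finite.of_injective (fun f : T →* K => (f : T → K)) DFunLike.coe_injective
  letI := Fintype.ofFinite (T →* K)
  have h := (linearIndependent_monoidHom T K).fintype_card_le_finrank
  rw [Module.finrank_fintype_fun_eq_card] at h
  rwa [Nat.card_eq_fintype_card, Nat.card_eq_fintype_card]

end Card

end Cfsg.Agent.Lib.CharDeep.PartBound
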